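import Groth.Prelude.Def_ega3
import Groth.Agent.UOpenDesc.Lift
import Groth.Agent.DescentBase.HenselSect
import Groth.Agent.EtaleBase.Sections
import Groth.Agent.Pi1FEt.Points
import Mathlib

/-!
# Universally closed étale morphisms with constant geometric fibre cardinality are finite
-/

set_option autoImplicit false
set_option backward.isDefEq.respectTransparency false
set_option backward.isDefEq.respectTransparency.types false

universe u

open CategoryTheory CategoryTheory.Limits AlgebraicGeometry TopologicalSpace IsLocalRing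
open scoped TensorProduct

namespace Groth.EtCount

theorem henselianLocalRing_of_isAlgClosed {V : Type u} [CommRing V] [IsDomain V] [ValuationRing V]
    (hK : IsAlgClosed (FractionRing V)) : HenselianLocalRing V where
  is_henselian f hf a₀ h₁ h₂ := by
    obtain ⟨n, hn⟩ : ∃ n, f.natDegree = n := ⟨_, rfl⟩
    induction n using Nat.strong_induction_on generalizing f with
    | _ n ih =>
      by_cases hd : f.natDegree = 0
      · rw [Polynomial.Monic.natDegree_eq_zero hf |>.1 hd, Polynomial.eval_one] at h₁
        exact absurd h₁ ((maximalIdeal.isMaximal V).ne_top.imp (Ideal.eq_top_iff_one _).2)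
      obtain ⟨r, hr⟩ := Groth.UOpenDesc.exists_root_of_monic hK hf hd
      obtain ⟨q, rfl⟩ := Polynomial.dvd_iff_isRoot.2 hr
      by_cases hm : a₀ - r ∈ maximalIdeal V
      · refine ⟨r, hr, ?_⟩
        rw [show r - a₀ = -(a₀ - r) by ring]
        exact neg_mem hm
      have hq : q.Monic := (Polynomial.monic_X_sub_C r).of_mul_monic_left hf
      rw [Polynomial.eval_mul, Polynomial.eval_sub, Polynomial.eval_X, Polynomial.eval_C] at h₁
      have h₁' : q.eval a₀ ∈ maximalIdeal V :=
        ((maximalIdeal.isMaximal V).isPrime.mem_or_mem h₁).resolve_left hm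
      rw [Polynomial.derivative_mul, Polynomial.derivative_sub, Polynomial.derivative_X,
        Polynomial.derivative_C, sub_zero, one_mul, Polynomial.eval_add, Polynomial.eval_mul,
        Polynomial.eval_sub, Polynomial.eval_X, Polynomial.eval_C] at h₂
      have h₂' : IsUnit (q.derivative.eval a₀) := by
        by_contra hc
        rw [← mem_nonunits_iff, ← mem_maximalIdeal] at hc
        exact mem_nonunits_iff.1 ((mem_maximalIdeal _).1 (add_mem h₁' (Ideal.mul_mem_left _ _ hc))) h₂
      have hdeg : q.natDegree < n := by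
        rw [← hn, (Polynomial.monic_X_sub_C r).natDegree_mul hq, Polynomial.natDegree_X_sub_C]
        omega
      obtain ⟨a, ha, ha'⟩ := ih _ hdeg q hq h₁' h₂' rfl
      refine ⟨a, ?_, ha'⟩
      rw [Polynomial.IsRoot, Polynomial.eval_mul, show q.eval a = 0 from ha, mul_zero]

variable {T S : Scheme.{u}} (f : T ⟶ S)

/-- Geometric points over a geometric point are counted by the functions on the fibre. -/
theorem natCard_lifts [Etale f] [QuasiCompact f] (k : Type u) [Field k] [IsAlgClosed k]
    (t : Spec (CommRingCat.of k) ⟶ S) :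
    ∃ s : S, Finite {p : Spec (CommRingCat.of k) ⟶ T // p ≫ f = t} ∧
      Nat.card {p : Spec (CommRingCat.of k) ⟶ T // p ≫ f = t} =
        Module.finrank (S.residueField s) Γ(f.fiber s, ⊤) := by
  obtain ⟨⟨s, φ⟩, rfl⟩ := (Scheme.SpecToEquivOfField k S).symm.surjective t
  refine ⟨s, ?_⟩
  let F : Scheme.{u} := f.fiber s
  let π : F ⟶ Spec (S.residueField s) := pullback.snd f (S.fromSpecResidueField s)
  have hπ : Etale π := inferInstance
  have : QuasiCompact π := inferInstance
  have : IsLocallyArtinian (Spec (S.residueField s)) := inferInstance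
  have : IsFinite π := IsFinite.of_locallyQuasiFinite π
  have : IsAffine F := isAffine_of_isAffineHom π
  let A : Type u := Γ(f.fiber s, ⊤)
  let φA : S.residueField s ⟶ Γ(F, ⊤) := (Scheme.ΓSpecIso _).inv ≫ π.appTop
  have hφA : algebraMap (S.residueField s) A = φA.hom := rfl
  have hπ' : π = F.isoSpec.hom ≫ Spec.map φA := by
    rw [Spec.map_comp, ← Category.assoc]
    refine Eq.trans ?_ (congrArg (· ≫ _) (Scheme.isoSpec_hom_naturality π).symm)
    rw [Category.assoc, Scheme.isoSpec_Spec_hom, ← Spec.map_comp]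
    simp
  have hE : Algebra.Etale (S.residueField s) A := by
    have h : Etale (Spec.map φA) := by
      rw [← F.isoSpec.inv_hom_id_assoc (Spec.map φA), ← hπ']
      infer_instance
    rw [HasRingHomProperty.Spec_iff (P := @Etale), ← hφA, RingHom.etale_algebraMap] at h
    exact h
  have hF : Module.Finite (S.residueField s) A := by
    have h : IsFinite (Spec.map φA) := by
      rw [← F.isoSpec.inv_hom_id_assoc (Spec.map φA), ← hπ']
      infer_instance
    rw [IsFinite.SpecMap_iff, ← hφA, RingHom.finite_algebraMap] at h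
    exact h
  letI : Algebra (S.residueField s) k := φ.hom.toAlgebra
  let e₁ : {p : Spec (CommRingCat.of k) ⟶ T // p ≫ f = Spec.map φ ≫ S.fromSpecResidueField s} ≃
      {p : Spec (CommRingCat.of k) ⟶ F // p ≫ π = Spec.map φ} :=
    { toFun := fun p => ⟨pullback.lift p.1 (Spec.map φ) p.2, pullback.lift_snd _ _ _⟩
      invFun := fun p => ⟨p.1 ≫ pullback.fst f (S.fromSpecResidueField s), by
        rw [Category.assoc, pullback.condition, ← Category.assoc]
        exact congrArg (· ≫ S.fromSpecResidueField s) p.2⟩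
      left_inv := fun p => Subtype.ext (pullback.lift_fst _ _ _)
      right_inv := fun p => Subtype.ext (pullback.hom_ext (pullback.lift_fst _ _ _)
        ((pullback.lift_snd _ _ _).trans p.2.symm)) }
  let e₂ : (A →ₐ[S.residueField s] k) ≃ {p : Spec (CommRingCat.of k) ⟶ F // p ≫ π = Spec.map φ} :=
    Equiv.ofBijective (fun ψ => ⟨Spec.map (CommRingCat.ofHom ψ.toRingHom) ≫ F.isoSpec.inv, by
      rw [hπ', Category.assoc, Iso.inv_hom_id_assoc, ← Spec.map_comp]
      congr 1
      ext x
      exact ψ.commutes x⟩)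
      ⟨fun ψ ψ' h => by
        have h' := congrArg Subtype.val h
        simp only [cancel_mono] at h'
        exact AlgHom.coe_ringHom_injective (congrArg CommRingCat.Hom.hom (Spec.map_injective h')),
      fun p => by
        obtain ⟨ψ, hψ⟩ := Spec.map_surjective (p.1 ≫ F.isoSpec.hom)
        have hc : φA ≫ ψ = φ := by
          apply Spec.map_injective
          rw [Spec.map_comp, hψ, Category.assoc, ← hπ', p.2]
        refine ⟨{ ψ.hom with commutes' := fun x => congrArg (fun m : S.residueField s ⟶ _ => m.hom x) hc },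
          Subtype.ext ?_⟩
        show Spec.map (CommRingCat.ofHom ψ.hom) ≫ F.isoSpec.inv = p.1
        rw [CommRingCat.ofHom_hom, hψ, Category.assoc, Iso.hom_inv_id, Category.comp_id]⟩
  let e : {p : Spec (CommRingCat.of k) ⟶ T // p ≫ f = Spec.map φ ≫ S.fromSpecResidueField s} ≃
      (k ⊗[S.residueField s] A →ₐ[k] k) :=
    e₁.trans (e₂.symm.trans (AlgHom.liftEquiv (S.residueField s) k A k))
  refine ⟨Finite.of_equiv _ e.symm, (Nat.card_congr e).trans ?_⟩
  exact (Groth.Pi1FEt.natCard_algHom (CommAlgCat.FiniteEtale.of k (k ⊗[S.residueField s] A))).trans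
    Module.finrank_baseChange

section ValuationRing

variable {V : Type u} [CommRing V] [IsDomain V] [ValuationRing V]

/-- Sections of an étale scheme over a local ring are determined by the closed point. -/
theorem section_unique {P : Scheme.{u}} (g : P ⟶ Spec (CommRingCat.of V)) [Etale g]
    (σ σ' : Spec (CommRingCat.of V) ⟶ P) (hσ : σ ≫ g = 𝟙 _) (hσ' : σ' ≫ g = 𝟙 _)
    (h : σ (closedPoint V) = σ' (closedPoint V)) : σ = σ' := by
  have : IsOpenImmersion σ := Groth.EtaleBase.isOpenImmersion_section g σ hσ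
  have hr : Set.range σ'.base ⊆ Set.range σ.base := by
    rintro _ ⟨y, rfl⟩
    exact ((IsLocalRing.specializes_closedPoint y).map σ'.continuous).mem_open σ.opensRange.isOpen
      ⟨closedPoint V, h⟩
  have e := IsOpenImmersion.lift_fac σ σ' hr
  have e' : IsOpenImmersion.lift σ σ' hr = 𝟙 _ := by
    have h' : (IsOpenImmersion.lift σ σ' hr ≫ σ) ≫ g = σ' ≫ g := by rw [e]
    rwa [Category.assoc, hσ, hσ', Category.comp_id] at h'
  rw [← e, e', Category.id_comp]

/-- Two lifts of a point over a valuation ring with algebraically closed fraction field coincide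
when their generic values do. -/
theorem eq_of_generic (hK : IsAlgClosed (FractionRing V)) [Etale f] [QuasiCompact f] [UniversallyClosed f]
    (d : ℕ) (hd : ∀ s : S, Module.finrank (S.residueField s) Γ(f.fiber s, ⊤) = d)
    (a b : Spec (CommRingCat.of V) ⟶ T) (hab : a ≫ f = b ≫ f)
    (h : Spec.map (CommRingCat.ofHom (algebraMap V (FractionRing V))) ≫ a =
      Spec.map (CommRingCat.ofHom (algebraMap V (FractionRing V))) ≫ b) : a = b := by
  have := henselianLocalRing_of_isAlgClosed hK
  have := Groth.UOpenDesc.isAlgClosed_residueField hK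
  let g := pullback.snd f (a ≫ f)
  let η := Spec.map (CommRingCat.ofHom (algebraMap V (FractionRing V)))
  let c := Groth.DescentBase.closedPt V
  let toLift : ∀ {k : Type u} [Field k] (j : Spec (CommRingCat.of k) ⟶ Spec (CommRingCat.of V)),
      {p : Spec (CommRingCat.of k) ⟶ pullback f (a ≫ f) // p ≫ g = j} ≃
        {p : Spec (CommRingCat.of k) ⟶ T // p ≫ f = j ≫ a ≫ f} := fun {k} _ j =>
    { toFun := fun p => ⟨p.1 ≫ pullback.fst f (a ≫ f), by
        rw [Category.assoc, pullback.condition, ← Category.assoc]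
        exact congrArg (· ≫ (a ≫ f)) p.2⟩
      invFun := fun p => ⟨pullback.lift p.1 j p.2, pullback.lift_snd _ _ _⟩
      left_inv := fun p => Subtype.ext (pullback.hom_ext (pullback.lift_fst _ _ _)
        ((pullback.lift_snd _ _ _).trans p.2.symm))
      right_inv := fun p => Subtype.ext (pullback.lift_fst _ _ _) }
  have hcard : ∀ {k : Type u} [Field k] [IsAlgClosed k] (j : Spec (CommRingCat.of k) ⟶ Spec (CommRingCat.of V)),
      Finite {p : Spec (CommRingCat.of k) ⟶ pullback f (a ≫ f) // p ≫ g = j} ∧
        Nat.card {p : Spec (CommRingCat.of k) ⟶ pullback f (a ≫ f) // p ≫ g = j} = d := by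
    intro k _ _ j
    obtain ⟨s, hfin, hs⟩ := natCard_lifts f k (j ≫ a ≫ f)
    exact ⟨Finite.of_equiv _ (toLift j).symm, (Nat.card_congr (toLift j)).trans (hs.trans (hd s))⟩
  let U : (Spec (CommRingCat.of V)).Etale := MorphismProperty.Over.mk ⊤ g (inferInstance : Etale g)
  have hsec : ∀ p : {p : Spec (CommRingCat.of (ResidueField V)) ⟶ pullback f (a ≫ f) // p ≫ g = c},
      ∃ σ : Spec (CommRingCat.of V) ⟶ pullback f (a ≫ f), σ ≫ g = 𝟙 _ ∧ c ≫ σ = p.1 := by
    intro p
    obtain ⟨r, hr⟩ := Groth.DescentBase.exists_section V U (Over.homMk p.1 p.2)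
    exact ⟨r.left, MorphismProperty.Over.w r, congrArg CommaMorphism.left hr⟩
  choose σ hσ hσc using hsec
  have hc0 : c (closedPoint (ResidueField V)) = closedPoint V :=
    IsLocalRing.comap_closedPoint (residue V)
  let Φ : {p : Spec (CommRingCat.of (ResidueField V)) ⟶ pullback f (a ≫ f) // p ≫ g = c} →
      {q : Spec (CommRingCat.of (FractionRing V)) ⟶ pullback f (a ≫ f) // q ≫ g = η} :=
    fun p => ⟨η ≫ σ p, by rw [Category.assoc, hσ, Category.comp_id]⟩
  have hΦs : Function.Surjective Φ := by
    rintro ⟨q, hq⟩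
    let z₀ := q (closedPoint (FractionRing V))
    have hcl : IsClosed (g '' closure {z₀}) := g.isClosedMap _ isClosed_closure
    obtain ⟨x, hx, hgx⟩ : closedPoint V ∈ g '' closure {z₀} :=
      (IsLocalRing.specializes_closedPoint (g z₀)).mem_closed hcl ⟨z₀, subset_closure rfl, rfl⟩
    obtain ⟨z, hz₁, -⟩ := Scheme.Pullback.exists_preimage_pullback (f := g) (g := c) x
      (closedPoint (ResidueField V)) (hgx.trans hc0.symm)
    have : IsFinite (pullback.snd g c) := IsFinite.of_locallyQuasiFinite _
    have : IsLocallyArtinian (pullback g c) := .of_locallyQuasiFinite (pullback.snd g c)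
    let p₀ := AlgebraicGeometry.pointOfClosedPoint (pullback.snd g c) z (isClosed_discrete _)
    let p : {p : Spec (CommRingCat.of (ResidueField V)) ⟶ pullback f (a ≫ f) // p ≫ g = c} :=
      ⟨p₀ ≫ pullback.fst g c, by
        rw [Category.assoc, pullback.condition, ← Category.assoc]
        exact (congrArg (· ≫ c) (AlgebraicGeometry.pointOfClosedPoint_comp _ _ _)).trans (Category.id_comp c)⟩
    refine ⟨p, Subtype.ext ?_⟩
    have : IsOpenImmersion (σ p) := Groth.EtaleBase.isOpenImmersion_section g _ (hσ p)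
    have hx' : x ∈ Set.range (σ p).base := by
      refine ⟨closedPoint V, ?_⟩
      rw [← hc0, ← Scheme.Hom.comp_apply, hσc]
      show (pullback.fst g c) (p₀ (closedPoint (ResidueField V))) = x
      rw [AlgebraicGeometry.pointOfClosedPoint_apply, hz₁]
    have hr : Set.range q.base ⊆ Set.range (σ p).base := by
      rintro _ ⟨y, rfl⟩
      rw [Subsingleton.elim y (closedPoint (FractionRing V))]
      exact (specializes_iff_mem_closure.2 hx).mem_open (σ p).opensRange.isOpen hx'
    have e := IsOpenImmersion.lift_fac (σ p) q hr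
    have e' : IsOpenImmersion.lift (σ p) q hr = η := by
      have h' : (IsOpenImmersion.lift (σ p) q hr ≫ σ p) ≫ g = q ≫ g := by rw [e]
      rwa [Category.assoc, hσ p, hq, Category.comp_id] at h'
    show η ≫ σ p = q
    rw [← e, e']
  have hΦ : Function.Injective Φ := by
    have := (hcard c).1
    exact ((Nat.bijective_iff_surjective_and_card Φ).2 ⟨hΦs, (hcard c).2.trans (hcard η).2.symm⟩).1
  let sa : Spec (CommRingCat.of V) ⟶ pullback f (a ≫ f) := pullback.lift a (𝟙 _) (Category.id_comp _).symm
  let sb : Spec (CommRingCat.of V) ⟶ pullback f (a ≫ f) :=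
    pullback.lift b (𝟙 _) (by rw [Category.id_comp, hab])
  have hsa : sa ≫ g = 𝟙 _ := pullback.lift_snd _ _ _
  have hsb : sb ≫ g = 𝟙 _ := pullback.lift_snd _ _ _
  have hgen : η ≫ sa = η ≫ sb := pullback.hom_ext
    (by rw [Category.assoc, Category.assoc, pullback.lift_fst, pullback.lift_fst]; exact h)
    (by rw [Category.assoc, Category.assoc, pullback.lift_snd, pullback.lift_snd])
  let pa : {p : Spec (CommRingCat.of (ResidueField V)) ⟶ pullback f (a ≫ f) // p ≫ g = c} :=
    ⟨c ≫ sa, by rw [Category.assoc, hsa, Category.comp_id]⟩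
  let pb : {p : Spec (CommRingCat.of (ResidueField V)) ⟶ pullback f (a ≫ f) // p ≫ g = c} :=
    ⟨c ≫ sb, by rw [Category.assoc, hsb, Category.comp_id]⟩
  have heq : ∀ (s : Spec (CommRingCat.of V) ⟶ pullback f (a ≫ f)) (hs : s ≫ g = 𝟙 _) (p), c ≫ s = p.1 →
      σ p = s := fun s hs p e => section_unique g _ _ (hσ p) hs (by
    rw [← hc0, ← Scheme.Hom.comp_apply, ← Scheme.Hom.comp_apply, hσc, e])
  have hp : pa = pb := hΦ (Subtype.ext (by
    show η ≫ σ pa = η ≫ σ pb
    rw [heq sa hsa pa rfl, heq sb hsb pb rfl, hgen]))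
  have : sa = sb := by rw [← heq sa hsa pa rfl, hp, heq sb hsb pb rfl]
  have := congrArg (· ≫ pullback.fst f (a ≫ f)) this
  simpa [sa, sb] using this

end ValuationRing

/-- Separatedness. -/
theorem isSeparated_of_finrank [Etale f] [QuasiCompact f] [QuasiSeparated f] [UniversallyClosed f]
    (d : ℕ) (hd : ∀ s : S, Module.finrank (S.residueField s) Γ(f.fiber s, ⊤) = d) : IsSeparated f := by
  refine IsSeparated.of_valuativeCriterion f fun sq => ⟨fun l₁ l₂ => ?_⟩
  let L := AlgebraicClosure sq.K
  let ι : sq.R →+* L := (algebraMap sq.K L).comp (algebraMap sq.R sq.K)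
  have hι : Function.Injective ι := (algebraMap sq.K L).injective.comp (IsFractionRing.injective sq.R sq.K)
  obtain ⟨V, hV, hloc⟩ := LocalSubring.exists_le_valuationSubring (LocalSubring.range ι)
  let ψ : sq.R →+* V := (Subring.inclusion hV).comp ι.rangeRestrict
  have : IsLocalHom ι.rangeRestrict :=
    IsLocalHom.of_surjective _ ι.rangeRestrict_surjective
  have : IsLocalHom ψ := @RingHom.isLocalHom_comp _ _ _ _ _ _ _ _ hloc this
  let eV : FractionRing V ≃ₐ[V] L := FractionRing.algEquiv V L
  have hK : IsAlgClosed (FractionRing V) := IsAlgClosed.of_ringEquiv L _ eV.symm.toRingEquiv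
  let c := Spec.map (CommRingCat.ofHom ψ)
  let hmap : sq.K →+* FractionRing V := eV.symm.toRingHom.comp (algebraMap sq.K L)
  have hgen : Spec.map (CommRingCat.ofHom (algebraMap V (FractionRing V))) ≫ c =
      Spec.map (CommRingCat.ofHom hmap) ≫ Spec.map (CommRingCat.ofHom (algebraMap sq.R sq.K)) := by
    rw [← Spec.map_comp, ← Spec.map_comp]
    congr 1
    ext r
    exact (eV.symm.commutes (ψ r)).symm
  have key : c ≫ l₁.l = c ≫ l₂.l := eq_of_generic f hK d hd _ _
    (by rw [Category.assoc, Category.assoc, l₁.fac_right, l₂.fac_right])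
    (by rw [← Category.assoc, ← Category.assoc, hgen, Category.assoc, Category.assoc]
        exact congrArg (Spec.map (CommRingCat.ofHom hmap) ≫ ·) (l₁.fac_left.trans l₂.fac_left.symm))
  apply CommSq.LiftStruct.ext
  have hpt : l₁.l (closedPoint sq.R) = l₂.l (closedPoint sq.R) := by
    have e : c (closedPoint V) = closedPoint sq.R := IsLocalRing.comap_closedPoint ψ
    rw [← e, ← Scheme.Hom.comp_apply, key, Scheme.Hom.comp_apply]
  obtain ⟨(W : T.Opens), hW, hxW, -⟩ := TopologicalSpace.Opens.isBasis_iff_nbhd.mp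
    T.isBasis_affineOpens (TopologicalSpace.Opens.mem_top (l₁.l (closedPoint sq.R)))
  have hr : ∀ (l : Spec (CommRingCat.of sq.R) ⟶ T), l (closedPoint sq.R) ∈ W →
      Set.range l.base ⊆ Set.range hW.fromSpec.base := by
    rintro l hl _ ⟨y, rfl⟩
    rw [hW.range_fromSpec]
    exact ((IsLocalRing.specializes_closedPoint y).map l.continuous).mem_open W.isOpen hl
  have h₁ := hr l₁.l hxW
  have h₂ := hr l₂.l (hpt ▸ hxW)
  obtain ⟨α, hα⟩ := Spec.map_surjective (IsOpenImmersion.lift hW.fromSpec l₁.l h₁)
  obtain ⟨β, hβ⟩ := Spec.map_surjective (IsOpenImmersion.lift hW.fromSpec l₂.l h₂)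
  have e₁ := IsOpenImmersion.lift_fac hW.fromSpec l₁.l h₁
  have e₂ := IsOpenImmersion.lift_fac hW.fromSpec l₂.l h₂
  rw [← hα] at e₁
  rw [← hβ] at e₂
  rw [← e₁, ← e₂] at key ⊢
  rw [← Category.assoc, ← Category.assoc, cancel_mono, ← Spec.map_comp, ← Spec.map_comp] at key
  congr 2
  ext x
  exact hι (congrArg (fun y : V => (y : L))
    (congrArg (fun m : Γ(T, W) ⟶ CommRingCat.of V => m.hom x) (Spec.map_injective key)))

theorem isFinite_of_finrank [Etale f] [QuasiCompact f] [QuasiSeparated f] [UniversallyClosed f]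
    (d : ℕ) (hd : ∀ s : S, Module.finrank (S.residueField s) Γ(f.fiber s, ⊤) = d) : IsFinite f := by
  have := isSeparated_of_finrank f d hd
  have : IsProper f := { }
  exact IsFinite.of_isProper_of_locallyQuasiFinite f

end Groth.EtCount
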